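import Mathlib
import Groth.Prelude.Def_RelProj

/-! # Projective space over any base is proper; H-projective = H-quasi-projective + proper. -/

set_option autoImplicit false
universe u
open CategoryTheory CategoryTheory.Limits AlgebraicGeometry

namespace Groth.Agent.H5.AG

lemma algebraMap_zero_surjective (n : ℕ) (R : Type u) [CommRing R] :
    Function.Surjective (algebraMap R (CohB1.polyGrading n R 0)) := by
  intro p
  have hp : (p : MvPolynomial (Fin (n+1)) R).IsHomogeneous 0 :=
    (MvPolynomial.mem_homogeneousSubmodule _ _).1 p.2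
  have h1 : (p : MvPolynomial (Fin (n+1)) R).totalDegree = 0 :=
    Nat.le_zero.1 hp.totalDegree_le
  refine ⟨MvPolynomial.coeff 0 p.1, Subtype.ext ?_⟩
  exact (MvPolynomial.totalDegree_eq_zero_iff_eq_C.1 h1).symm

/-- the structure morphism of projective space over a ring is proper. -/
theorem isProper_toSpec (n : ℕ) (R : Type u) [CommRing R] :
    IsProper (CohB1.ProjSpace.toSpec n R) := by
  haveI : IsScalarTower R (CohB1.polyGrading n R 0) (MvPolynomial (Fin (n+1)) R) :=
    ⟨fun a p q => by
      change ((a • p : CohB1.polyGrading n R 0) : MvPolynomial (Fin (n+1)) R) * q =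
        a • ((p : MvPolynomial (Fin (n+1)) R) * q)
      rw [Submodule.coe_smul, smul_mul_assoc]⟩
  haveI : Algebra.FiniteType (CohB1.polyGrading n R 0) (MvPolynomial (Fin (n+1)) R) :=
    Algebra.FiniteType.of_restrictScalars_finiteType R _ _
  haveI : IsClosedImmersion
      (Spec.map (CommRingCat.ofHom (algebraMap R (CohB1.polyGrading n R 0)))) :=
    IsClosedImmersion.spec_of_surjective _ (algebraMap_zero_surjective n R)
  haveI h1 : IsProper (Proj.toSpecZero (CohB1.polyGrading n R)) := inferInstance
  haveI h2 : IsProper
      (Spec.map (CommRingCat.ofHom (algebraMap R (CohB1.polyGrading n R 0)))) := inferInstance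
  unfold CohB1.ProjSpace.toSpec
  exact MorphismProperty.comp_mem _ _ _ h1 h2

/-- projective space over any base scheme is proper over the base. -/
theorem isProper_toBase (n : ℕ) (S : Scheme.{u}) : IsProper (CohB1.ProjSpaceOver.toBase n S) := by
  haveI := isProper_toSpec n (ULift.{u} ℤ)
  unfold CohB1.ProjSpaceOver.toBase
  exact MorphismProperty.pullback_snd (P := @IsProper) _ _ inferInstance

/-- an H-projective morphism is proper. -/
theorem isProper_of_isHProjective {X S : Scheme.{u}} (f : X ⟶ S) (hf : RelProj.IsHProjective f) :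
    IsProper f := by
  obtain ⟨n, i, hi, rfl⟩ := hf
  haveI := isProper_toBase n S
  infer_instance

/-- H-projective = H-quasi-projective and proper. -/
theorem isHProjective_iff {X S : Scheme.{u}} (f : X ⟶ S) :
    RelProj.IsHProjective f ↔ RelProj.IsHQuasiProjective f ∧ IsProper f := by
  constructor
  · intro hf
    refine ⟨?_, isProper_of_isHProjective f hf⟩
    obtain ⟨n, i, hi, hif⟩ := hf
    exact ⟨n, i, inferInstance, inferInstance, hif⟩
  · rintro ⟨⟨n, i, hi, hqc, hif⟩, hp⟩
    haveI := isProper_toBase n S
    haveI : IsProper (i ≫ CohB1.ProjSpaceOver.toBase n S) := hif ▸ hp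
    haveI : IsProper i := IsProper.of_comp i (CohB1.ProjSpaceOver.toBase n S)
    refine ⟨n, i, ?_, hif⟩
    exact IsClosedImmersion.of_isPreimmersion i i.isClosedMap.isClosed_range

end Groth.Agent.H5.AG
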