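import Groth.Prelude.Def_RelProj

universe u

open CategoryTheory CategoryTheory.Limits AlgebraicGeometry

namespace Groth.Agent.H5.AG

/-- the canonical map `P^n_{S'} ⟶ P^n_S` induced by `g : S' ⟶ S` -/
noncomputable def projMap (n : ℕ) {T S : Scheme.{u}} (φ : T ⟶ S) :
    CohB1.ProjSpaceOver n T ⟶ CohB1.ProjSpaceOver n S :=
  Limits.pullback.map (CohB1.ProjSpace.toSpec n (ULift.{u} ℤ)) (specULiftZIsTerminal.from T)
    (CohB1.ProjSpace.toSpec n (ULift.{u} ℤ)) (specULiftZIsTerminal.from S) (𝟙 _) φ (𝟙 _)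
    (by simp) (specULiftZIsTerminal.hom_ext _ _)

lemma projMap_isPullback (n : ℕ) {T S : Scheme.{u}} (φ : T ⟶ S) :
    IsPullback (projMap n φ) (CohB1.ProjSpaceOver.toBase n T) (CohB1.ProjSpaceOver.toBase n S) φ := by
  have hright : IsPullback (pullback.fst (CohB1.ProjSpace.toSpec n (ULift.{u} ℤ))
      (specULiftZIsTerminal.from S)) (CohB1.ProjSpaceOver.toBase n S)
      (CohB1.ProjSpace.toSpec n (ULift.{u} ℤ)) (specULiftZIsTerminal.from S) :=
    IsPullback.of_hasPullback _ _
  have hT : specULiftZIsTerminal.from T = φ ≫ specULiftZIsTerminal.from S :=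
    specULiftZIsTerminal.hom_ext _ _
  have houter : IsPullback (projMap n φ ≫ pullback.fst (CohB1.ProjSpace.toSpec n (ULift.{u} ℤ))
      (specULiftZIsTerminal.from S)) (CohB1.ProjSpaceOver.toBase n T)
      (CohB1.ProjSpace.toSpec n (ULift.{u} ℤ)) (φ ≫ specULiftZIsTerminal.from S) := by
    have h0 : IsPullback (pullback.fst (CohB1.ProjSpace.toSpec n (ULift.{u} ℤ))
        (specULiftZIsTerminal.from T)) (CohB1.ProjSpaceOver.toBase n T)
        (CohB1.ProjSpace.toSpec n (ULift.{u} ℤ)) (specULiftZIsTerminal.from T) :=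
      IsPullback.of_hasPullback _ _
    have e1 : projMap n φ ≫ pullback.fst (CohB1.ProjSpace.toSpec n (ULift.{u} ℤ))
        (specULiftZIsTerminal.from S) = pullback.fst (CohB1.ProjSpace.toSpec n (ULift.{u} ℤ))
        (specULiftZIsTerminal.from T) := by
      exact (pullback.lift_fst _ _ _).trans (Category.comp_id _)
    rw [← hT, e1]
    exact h0
  refine IsPullback.of_right houter ?_ hright
  exact pullback.lift_snd _ _ _

theorem isHProjective_baseChange {X S S' : Scheme.{u}} (f : X ⟶ S) (hf : RelProj.IsHProjective f)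
    (g : S' ⟶ S) : RelProj.IsHProjective (pullback.snd f g) := by
  obtain ⟨n, i, hi, hif⟩ := hf
  have hbot := projMap_isPullback n g
  have houter : IsPullback (pullback.fst f g) (pullback.snd f g)
      (i ≫ CohB1.ProjSpaceOver.toBase n S) g := by
    rw [hif]
    exact IsPullback.of_hasPullback f g
  let i' : pullback f g ⟶ CohB1.ProjSpaceOver n S' :=
    hbot.lift (pullback.fst f g ≫ i) (pullback.snd f g) (by
      rw [Category.assoc, hif, pullback.condition])
  have h1 : i' ≫ projMap n g = pullback.fst f g ≫ i := hbot.lift_fst _ _ _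
  have h2 : i' ≫ CohB1.ProjSpaceOver.toBase n S' = pullback.snd f g := hbot.lift_snd _ _ _
  have htop : IsPullback (pullback.fst f g) i' i (projMap n g) := by
    refine IsPullback.of_bot ?_ h1.symm hbot
    rw [h2]
    exact houter
  refine ⟨n, i', ?_, h2⟩
  exact MorphismProperty.of_isPullback (P := @IsClosedImmersion) htop hi

end Groth.Agent.H5.AG
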