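import Mathlib
import Groth.Prelude.Def_RelProj

set_option autoImplicit false
universe u
open CategoryTheory CategoryTheory.Limits AlgebraicGeometry

namespace Groth.Agent.H5.AG

variable (n : ℕ) (R : Type u) [CommRing R]

lemma X0_mem : (MvPolynomial.X (0 : Fin (n+1)) : MvPolynomial (Fin (n+1)) R) ∈
    CohB1.polyGrading n R 1 :=
  (MvPolynomial.mem_homogeneousSubmodule 1 _).mpr (MvPolynomial.isHomogeneous_X R 0)

/-- evaluation at the point `[1:0:…:0]` on the chart `T_0 ≠ 0`. -/
noncomputable def evalAway0 :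
    HomogeneousLocalization.Away (CohB1.polyGrading n R)
      (MvPolynomial.X (0 : Fin (n+1)) : MvPolynomial (Fin (n+1)) R) →+* R :=
  (IsLocalization.Away.lift
      (S := Localization.Away (MvPolynomial.X (0 : Fin (n+1)) : MvPolynomial (Fin (n+1)) R))
      (MvPolynomial.X (0 : Fin (n+1)) : MvPolynomial (Fin (n+1)) R)
      (g := (MvPolynomial.aeval (Pi.single 0 (1 : R) : Fin (n + 1) → R)).toRingHom)
      (by simp)).comp
    (algebraMap _ _)

lemma evalAway0_comp :
    (evalAway0 n R).comp
      ((HomogeneousLocalization.fromZeroRingHom (CohB1.polyGrading n R) _).comp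
        (algebraMap R (CohB1.polyGrading n R 0))) = RingHom.id R := by
  ext r
  simp only [evalAway0, RingHom.coe_comp, Function.comp_apply, RingHom.id_apply]
  have : (algebraMap (HomogeneousLocalization.Away (CohB1.polyGrading n R)
      (MvPolynomial.X (0 : Fin (n+1)) : MvPolynomial (Fin (n+1)) R))
      (Localization.Away (MvPolynomial.X (0 : Fin (n+1)) : MvPolynomial (Fin (n+1)) R)))
      ((HomogeneousLocalization.fromZeroRingHom (CohB1.polyGrading n R) _)
        (algebraMap R (CohB1.polyGrading n R 0) r)) =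
      algebraMap (MvPolynomial (Fin (n+1)) R) _ (MvPolynomial.C r) := by
    rw [HomogeneousLocalization.algebraMap_apply]
    simp [HomogeneousLocalization.fromZeroRingHom]
    rfl
  rw [this, IsLocalization.Away.lift_eq]
  simp

/-- the section `Spec R ⟶ P^n_R` at `[1:0:…:0]`. -/
noncomputable def sectionSpec : Spec (CommRingCat.of R) ⟶ CohB1.ProjSpace n R :=
  Spec.map (CommRingCat.ofHom (evalAway0 n R)) ≫
    Proj.awayι (CohB1.polyGrading n R) _ (X0_mem n R) one_pos

lemma sectionSpec_toSpec : sectionSpec n R ≫ CohB1.ProjSpace.toSpec n R = 𝟙 _ := by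
  have h1 : (Spec.map (CommRingCat.ofHom (evalAway0 n R)) ≫
      Proj.awayι (CohB1.polyGrading n R) _ (X0_mem n R) one_pos) ≫
      (Proj.toSpecZero (CohB1.polyGrading n R) ≫
        Spec.map (CommRingCat.ofHom (algebraMap R (CohB1.polyGrading n R 0)))) = 𝟙 _ := by
    rw [Category.assoc, Proj.awayι_toSpecZero_assoc, ← Spec.map_comp, ← Spec.map_comp,
      ← CommRingCat.ofHom_comp, ← CommRingCat.ofHom_comp]
    have := evalAway0_comp n R
    rw [this]
    exact Spec.map_id _
  exact h1

theorem surjective_toSpec : Surjective (CohB1.ProjSpace.toSpec n R) := by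
  refine ⟨fun x => ⟨(sectionSpec n R) x, ?_⟩⟩
  rw [← Scheme.Hom.comp_apply, sectionSpec_toSpec]
  rfl

theorem surjective_toBase (S : Scheme.{u}) : Surjective (CohB1.ProjSpaceOver.toBase n S) := by
  haveI := surjective_toSpec n (ULift.{u} ℤ)
  unfold CohB1.ProjSpaceOver.toBase
  exact MorphismProperty.pullback_snd (P := @Surjective) _ _ inferInstance

end Groth.Agent.H5.AG
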