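import Mathlib

universe u

open CategoryTheory Limits AlgebraicGeometry TopologicalSpace Opposite

namespace Groth.Agent.H5.AG

lemma comapFun_injective {R : Type u} [CommRing R] {M N : Type u} [AddCommGroup M] [Module R M]
    [AddCommGroup N] [Module R N] (f : M →ₗ[R] N) (hf : Function.Injective f)
    (y : PrimeSpectrum.Top R) :
    Function.Injective (StructureSheaf.Localizations.comapFun f y) := by
  intro a b hab
  induction a using LocalizedModule.induction_on with | h a s =>
  induction b using LocalizedModule.induction_on with | h b t =>
  rw [StructureSheaf.Localizations.comapFun_mk, StructureSheaf.Localizations.comapFun_mk,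
    LocalizedModule.mk_eq] at hab
  obtain ⟨u, hu⟩ := hab
  rw [LocalizedModule.mk_eq]
  refine ⟨u, hf ?_⟩
  have e1 : f (u • t • a) = (u : R) • (t : R) • f a := by
    rw [Submonoid.smul_def, Submonoid.smul_def, map_smul, map_smul]
  have e2 : f (u • s • b) = (u : R) • (s : R) • f b := by
    rw [Submonoid.smul_def, Submonoid.smul_def, map_smul, map_smul]
  exact e1.trans (Eq.trans hu e2.symm)

variable {R : CommRingCat.{u}}

lemma tilde_map_mono {M N : ModuleCat.{u} R} (f : M ⟶ N) [Mono f] : Mono (tilde.map f) := by
  have hinj : Function.Injective f.hom := (ModuleCat.mono_iff_injective f).mp ‹_›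
  apply (modulesSpecToSheaf (R := R) ⋙ TopCat.Sheaf.forget _ _).mono_of_mono_map
  have : ∀ U, Mono (((modulesSpecToSheaf (R := R) ⋙ TopCat.Sheaf.forget _ _).map (tilde.map f)).app U) := by
    intro U
    rw [ModuleCat.mono_iff_injective]
    intro s t hst
    apply Subtype.ext
    funext y
    have h1 := congrArg (fun z => z.1 y) hst
    exact comapFun_injective f.hom hinj y.1 h1
  exact NatTrans.mono_of_mono_app _

end Groth.Agent.H5.AG

namespace Groth.Agent.H5.AG

variable (R : CommRingCat.{u})

instance tilde_preservesMonomorphisms : (tilde.functor R).PreservesMonomorphisms where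
  preserves f _ := tilde_map_mono f

lemma tilde_preservesFiniteColimits : PreservesFiniteColimits (tilde.functor R) := inferInstance

lemma tilde_preservesFiniteLimits : PreservesFiniteLimits (tilde.functor R) := by
  have : (tilde.functor R).PreservesHomology :=
    Functor.preservesHomology_of_preservesMonos_and_cokernels _
  exact (tilde.functor R).preservesFiniteLimits_of_preservesHomology

end Groth.Agent.H5.AG

namespace Groth.Agent.H5.AG

variable (R : CommRingCat.{u})

/-- quasi-coherence, as in the Prelude -/
abbrev QC {X : Scheme.{u}} (M : X.Modules) : Prop := SheafOfModules.IsQuasicoherent M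

lemma isQuasicoherent_colimit {J : Type u} [SmallCategory J] (G : J ⥤ (Spec (.of R)).Modules)
    (hG : ∀ j, QC (G.obj j)) :
    QC (colimit G) := by
  have h := AlgebraicGeometry.essImage_tilde (R := R)
  have hF' : ∀ j, (tilde.functor R).essImage (G.obj j) := by
    intro j
    rw [h]
    exact hG j
  have h2 := CategoryTheory.ObjectProperty.prop_colimit (P := (tilde.functor R).essImage) G hF'
  rw [h] at h2
  exact h2

lemma isQuasicoherent_kernel_cokernel {M N : (Spec (.of R)).Modules}
    (hM : QC M) (hN : QC N) (φ : M ⟶ N) :
    QC (kernel φ) ∧ QC (cokernel φ) := by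
  have h := AlgebraicGeometry.essImage_tilde (R := R)
  have hF' : ∀ j, (tilde.functor R).essImage ((parallelPair φ 0).obj j) := by
    intro j
    rw [h]
    cases j
    · exact hM
    · exact hN
  have := tilde_preservesFiniteLimits R
  have h2 := CategoryTheory.ObjectProperty.prop_colimit (P := (tilde.functor R).essImage) _ hF'
  have h3 := CategoryTheory.ObjectProperty.prop_limit (P := (tilde.functor R).essImage) _ hF'
  rw [h] at h2 h3
  exact ⟨h3, h2⟩

end Groth.Agent.H5.AG
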