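import Mathlib
import Groth.Prelude.Def_Pi1

universe u

open CategoryTheory CategoryTheory.Limits AlgebraicGeometry TopologicalSpace

namespace Groth.Agent.H5.AG

theorem isNormalScheme_iff_affine (X : Scheme.{u}) [IsIntegral X] :
    Pi1.IsNormalScheme X ↔
      ∀ (U : X.Opens) [Nonempty U], IsAffineOpen U → IsIntegrallyClosed Γ(X, U) := by
  constructor
  · intro hN U _ hU
    apply IsIntegrallyClosed.of_localization_maximal
    intro p _ hp
    let y : PrimeSpectrum Γ(X, U) := ⟨p, inferInstance⟩
    have hy : hU.fromSpec y ∈ U := by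
      have : hU.fromSpec y ∈ Set.range hU.fromSpec := ⟨y, rfl⟩
      rw [hU.range_fromSpec] at this
      exact this
    let _ := TopCat.Presheaf.algebra_section_stalk X.presheaf (⟨hU.fromSpec y, hy⟩ : U)
    have hloc : IsLocalization.AtPrime (X.presheaf.stalk (hU.fromSpec y)) p :=
      hU.isLocalization_stalk' y hy
    have hic := (hN (hU.fromSpec y)).2
    exact IsIntegrallyClosed.of_equiv
      (IsLocalization.algEquiv p.primeCompl (X.presheaf.stalk (hU.fromSpec y))
        (Localization.AtPrime p)).toRingEquiv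
  · intro h x
    obtain ⟨U, hU, hxU, -⟩ := exists_isAffineOpen_mem_and_subset (x := x) (U := ⊤) trivial
    have : Nonempty U := ⟨⟨x, hxU⟩⟩
    have hic := h U hU
    let _ := TopCat.Presheaf.algebra_section_stalk X.presheaf (⟨x, hxU⟩ : U)
    have hloc := hU.isLocalization_stalk ⟨x, hxU⟩
    refine ⟨inferInstance, ?_⟩
    exact isIntegrallyClosed_of_isLocalization (X.presheaf.stalk x)
      (hU.primeIdealOf ⟨x, hxU⟩).asIdeal.primeCompl
      (Ideal.primeCompl_le_nonZeroDivisors _)

end Groth.Agent.H5.AG
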