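import Mathlib
import Groth.Prelude.Def_Flat

universe u

open CategoryTheory CategoryTheory.Limits AlgebraicGeometry TopologicalSpace

namespace Groth.Agent.H5.AG

lemma topologicalKrullDim_nonneg (T : Type*) [TopologicalSpace T] [Nonempty T] :
    0 ≤ topologicalKrullDim T := by
  obtain ⟨t⟩ := ‹Nonempty T›
  have : Nonempty (IrreducibleCloseds T) :=
    ⟨⟨closure {t}, isIrreducible_singleton.closure, isClosed_closure⟩⟩
  exact Order.krullDim_nonneg

theorem localDim_eq_zero_iff (X : Scheme.{u}) [IsLocallyNoetherian X] (x : X) :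
    FlatMor.localDim X x = 0 ↔ IsOpen ({x} : Set X) := by
  unfold FlatMor.localDim
  constructor
  · intro h
    have hne : Nonempty {U : Opens X // x ∈ U} := ⟨⟨⊤, trivial⟩⟩
    obtain ⟨⟨U, hxU⟩, hU⟩ := ciInf_mem
      (fun U : {U : Opens X // x ∈ U} => topologicalKrullDim (U.1 : Set X))
    rw [h] at hU
    have hU' : topologicalKrullDim (U : Scheme.{u}) ≤ 0 := le_of_eq hU
    have h1 : IsLocallyArtinian (U : Scheme.{u}) := .of_topologicalKrullDim_le_zero hU'
    have h2 : DiscreteTopology (U : Scheme.{u}) := inferInstance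
    have h3 : IsOpen ({⟨x, hxU⟩} : Set (U : Scheme.{u})) := isOpen_discrete _
    have h4 := (Scheme.Opens.ι U).isOpenEmbedding.isOpenMap _ h3
    simpa using h4
  · intro h
    apply le_antisymm
    · refine (iInf_le _ ⟨⟨{x}, h⟩, rfl⟩).trans ?_
      have : DiscreteTopology (({x} : Set X)) := by
        have : Subsingleton (({x} : Set X)) :=
          (Set.subsingleton_coe _).mpr Set.subsingleton_singleton
        infer_instance
      exact topologicalKrullDim_zero_of_discreteTopology _
    · apply le_iInf
      rintro ⟨U, hxU⟩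
      have : Nonempty ((U : Opens X) : Set X) := ⟨⟨x, hxU⟩⟩
      exact topologicalKrullDim_nonneg _

end Groth.Agent.H5.AG
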