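import Mathlib
import Groth.Prelude.Def_MoreMor

universe u

open CategoryTheory CategoryTheory.Limits AlgebraicGeometry

namespace Groth.Agent.H5.AG

lemma comap_mk_surjective (A : Type u) [CommRing A] (I : Ideal A) (hI : I ^ 2 = ⊥) :
    Function.Surjective (PrimeSpectrum.comap (Ideal.Quotient.mk I)) := by
  intro y
  have hy : y ∈ Set.range (PrimeSpectrum.comap (Ideal.Quotient.mk I)) := by
    rw [range_comap_of_surjective _ _ Ideal.Quotient.mk_surjective,
      Ideal.mk_ker, PrimeSpectrum.mem_zeroLocus]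
    have : I ^ 2 ≤ y.asIdeal := by rw [hI]; exact bot_le
    exact y.2.le_of_pow_le this
  exact hy

lemma specMap_mk_surjective (A : Type u) [CommRing A] (I : Ideal A) (hI : I ^ 2 = ⊥) :
    Function.Surjective (Spec.map (CommRingCat.ofHom (Ideal.Quotient.mk I))) :=
  comap_mk_surjective A I hI

theorem formallyEtale_resLE {X S : Scheme.{u}} (f : X ⟶ S) (hf : MoreMor.IsFormallyEtaleHom f)
    (U : X.Opens) (V : S.Opens) (h : U ≤ f ⁻¹ᵁ V) : MoreMor.IsFormallyEtaleHom (f.resLE V U h) := by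
  intro A _ I hI a b hab
  have hab' : Spec.map (CommRingCat.ofHom (Ideal.Quotient.mk I)) ≫ (b ≫ V.ι) = (a ≫ U.ι) ≫ f := by
    rw [← Category.assoc, hab, Category.assoc, Category.assoc, Scheme.Hom.resLE_comp_ι]
  obtain ⟨l', ⟨hl1, hl2⟩, huniq⟩ := hf A I hI (a ≫ U.ι) (b ≫ V.ι) hab'
  have hrange : Set.range l' ⊆ Set.range U.ι := by
    rintro _ ⟨y, rfl⟩
    obtain ⟨z, rfl⟩ := specMap_mk_surjective A I hI y
    rw [← Scheme.Hom.comp_apply, hl1, Scheme.Hom.comp_apply]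
    exact ⟨a z, rfl⟩
  let l := IsOpenImmersion.lift U.ι l' hrange
  have hl : l ≫ U.ι = l' := IsOpenImmersion.lift_fac _ _ _
  refine ⟨l, ⟨?_, ?_⟩, ?_⟩
  · rw [← cancel_mono U.ι, Category.assoc, hl, hl1]
  · rw [← cancel_mono V.ι, Category.assoc, Scheme.Hom.resLE_comp_ι, ← Category.assoc, hl, hl2]
  · rintro l₂ ⟨h1, h2⟩
    rw [← cancel_mono U.ι, hl]
    apply huniq
    constructor
    · rw [← Category.assoc, h1]
    · rw [Category.assoc, ← Scheme.Hom.resLE_comp_ι (e := h), ← Category.assoc, h2]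

end Groth.Agent.H5.AG

namespace Groth.Agent.H5.AG

theorem formallySmooth_resLE {X S : Scheme.{u}} (f : X ⟶ S) (hf : MoreMor.IsFormallySmoothHom f)
    (U : X.Opens) (V : S.Opens) (h : U ≤ f ⁻¹ᵁ V) : MoreMor.IsFormallySmoothHom (f.resLE V U h) := by
  intro A _ I hI a b hab
  have hab' : Spec.map (CommRingCat.ofHom (Ideal.Quotient.mk I)) ≫ (b ≫ V.ι) = (a ≫ U.ι) ≫ f := by
    rw [← Category.assoc, hab, Category.assoc, Category.assoc, Scheme.Hom.resLE_comp_ι]
  obtain ⟨l', hl1, hl2⟩ := hf A I hI (a ≫ U.ι) (b ≫ V.ι) hab'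
  have hrange : Set.range l' ⊆ Set.range U.ι := by
    rintro _ ⟨y, rfl⟩
    obtain ⟨z, rfl⟩ := specMap_mk_surjective A I hI y
    rw [← Scheme.Hom.comp_apply, hl1, Scheme.Hom.comp_apply]
    exact ⟨a z, rfl⟩
  let l := IsOpenImmersion.lift U.ι l' hrange
  have hl : l ≫ U.ι = l' := IsOpenImmersion.lift_fac _ _ _
  refine ⟨l, ?_, ?_⟩
  · rw [← cancel_mono U.ι, Category.assoc, hl, hl1]
  · rw [← cancel_mono V.ι, Category.assoc, Scheme.Hom.resLE_comp_ι, ← Category.assoc, hl, hl2]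

end Groth.Agent.H5.AG
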