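import Mathlib
import Groth.Prelude.Def_Pi1

universe u

open CategoryTheory CategoryTheory.Limits AlgebraicGeometry TopologicalSpace

namespace Groth.Agent.H5.AG

/-- If the local ring at `x` is a domain, then `x` lies on exactly one irreducible component. -/
lemma irreducibleComponent_unique_of_isDomain_stalk (X : Scheme.{u}) (x : X)
    [IsDomain (X.presheaf.stalk x)] {Z Z' : Set X} (hZ : Z ∈ irreducibleComponents X)
    (hZ' : Z' ∈ irreducibleComponents X) (hx : x ∈ Z) (hx' : x ∈ Z') : Z = Z' := by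
  let ξ : X := X.fromSpecStalk x ⟨⊥, Ideal.isPrime_bot⟩
  have key : ∀ W ∈ irreducibleComponents X, x ∈ W → W = closure {ξ} := by
    intro W hW hxW
    have hWc : IsClosed W := isClosed_of_mem_irreducibleComponents W hW
    obtain ⟨η, hη⟩ := QuasiSober.sober hW.1 hWc
    have hηx : η ⤳ x := by
      rw [specializes_iff_mem_closure, hη.def]
      exact hxW
    have hmem : η ∈ Set.range (X.fromSpecStalk x) := by
      rw [Scheme.range_fromSpecStalk]; exact hηx
    obtain ⟨p, rfl⟩ := hmem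
    have h1 : (⟨⊥, Ideal.isPrime_bot⟩ : PrimeSpectrum (X.presheaf.stalk x)) ⤳ p :=
      (PrimeSpectrum.le_iff_specializes _ _).mp bot_le
    have h2 : ξ ⤳ X.fromSpecStalk x p := h1.map (X.fromSpecStalk x).continuous
    have h3 : W ⊆ closure {ξ} := by
      rw [← hη.def]
      exact closure_minimal (Set.singleton_subset_iff.mpr h2.mem_closure) isClosed_closure
    exact le_antisymm h3 (hW.2 isIrreducible_singleton.closure h3)
  rw [key Z hZ hx, key Z' hZ' hx']

theorem normal_components (X : Scheme.{u})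
    (hfin : ∀ U : X.Opens, IsCompact (U : Set X) → (irreducibleComponents ↥U).Finite)
    (hN : Pi1.IsNormalScheme X) :
    (∀ Z ∈ irreducibleComponents X, IsOpen Z) ∧
      ∀ Z ∈ irreducibleComponents X, ∀ Z' ∈ irreducibleComponents X, Z ≠ Z' → Disjoint Z Z' := by
  have hdisj : ∀ Z ∈ irreducibleComponents X, ∀ Z' ∈ irreducibleComponents X, Z ≠ Z' →
      Disjoint Z Z' := by
    intro Z hZ Z' hZ' hne
    rw [Set.disjoint_left]
    intro x hx hx'
    have := (hN x).1
    exact hne (irreducibleComponent_unique_of_isDomain_stalk X x hZ hZ' hx hx')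
  refine ⟨?_, hdisj⟩
  intro Z hZ
  rw [isOpen_iff_mem_nhds]
  intro x hxZ
  obtain ⟨U, hU, hxU, -⟩ := exists_isAffineOpen_mem_and_subset (x := x) (U := ⊤) trivial
  have hfinU := hfin U hU.isCompact
  let ι : U → X := Subtype.val
  have hι : Topology.IsOpenEmbedding ι := U.isOpen.isOpenEmbedding_subtypeVal
  have hZU : ι ⁻¹' Z ∈ irreducibleComponents ↥U :=
    preimage_mem_irreducibleComponents hZ hι ⟨x, hxZ, ⟨⟨x, hxU⟩, rfl⟩⟩
  -- every component of `U` is the restriction of a component of `X`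
  have hcomp : ∀ C ∈ irreducibleComponents ↥U, ∃ Z' ∈ irreducibleComponents X, C = ι ⁻¹' Z' := by
    intro C hC
    have hirr : IsIrreducible (ι '' C) := hC.1.image ι hι.continuous.continuousOn
    obtain ⟨Z', hZ', hsub⟩ := exists_mem_irreducibleComponents_subset_of_isIrreducible _ hirr
    refine ⟨Z', hZ', ?_⟩
    have hne : (Z' ∩ Set.range ι).Nonempty := by
      obtain ⟨c, hc⟩ := hC.1.1
      exact ⟨ι c, hsub ⟨c, hc, rfl⟩, ⟨c, rfl⟩⟩
    have hZ'U : ι ⁻¹' Z' ∈ irreducibleComponents ↥U :=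
      preimage_mem_irreducibleComponents hZ' hι hne
    have hCsub : C ⊆ ι ⁻¹' Z' := fun c hc => hsub ⟨c, hc, rfl⟩
    exact le_antisymm hCsub (hC.2 hZ'U.1 hCsub)
  -- the union of the other components of `U`
  let W : Set U := ⋃₀ {C | C ∈ irreducibleComponents ↥U ∧ C ≠ ι ⁻¹' Z}
  have hWclosed : IsClosed W := by
    change IsClosed (⋃₀ {C | C ∈ irreducibleComponents ↥U ∧ C ≠ ι ⁻¹' Z})
    rw [Set.sUnion_eq_biUnion]
    apply Set.Finite.isClosed_biUnion (hfinU.subset fun C hC => hC.1)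
    intro C hC
    exact isClosed_of_mem_irreducibleComponents C hC.1
  have hopen : IsOpen (ι '' Wᶜ) := hι.isOpenMap _ hWclosed.isOpen_compl
  have hxW : (⟨x, hxU⟩ : U) ∉ W := by
    rintro ⟨C, ⟨hC, hCne⟩, hxC⟩
    obtain ⟨Z', hZ', rfl⟩ := hcomp C hC
    have : Z = Z' := by
      have := (hN x).1
      exact irreducibleComponent_unique_of_isDomain_stalk X x hZ hZ' hxZ hxC
    exact hCne (this ▸ rfl)
  have hsubZ : ι '' Wᶜ ⊆ Z := by
    rintro _ ⟨y, hy, rfl⟩
    have hyU : y ∈ ⋃₀ irreducibleComponents ↥U := by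
      rw [sUnion_irreducibleComponents]; trivial
    obtain ⟨C, hC, hyC⟩ := hyU
    by_cases hCZ : C = ι ⁻¹' Z
    · rw [hCZ] at hyC; exact hyC
    · exact (hy ⟨C, ⟨hC, hCZ⟩, hyC⟩).elim
  exact Filter.mem_of_superset (hopen.mem_nhds ⟨⟨x, hxU⟩, hxW, rfl⟩) hsubZ

end Groth.Agent.H5.AG
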