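import Mathlib
import Groth.Prelude.Def_Pi1

universe u

open CategoryTheory CategoryTheory.Limits AlgebraicGeometry

namespace Groth.Agent.H5.AG

lemma isRegularLocalRing_of_dim_le_one (R : Type u) [CommRing R] [IsLocalRing R]
    [IsNoetherianRing R] [IsDomain R] [IsIntegrallyClosed R] (h : ringKrullDim R ≤ 1) :
    IsRegularLocalRing R := by
  have h1 : Ring.KrullDimLE 1 R := Ring.krullDimLE_iff.mpr (by simpa using h)
  have h2 : Ring.DimensionLEOne R :=
    ⟨fun {p} hp hpp => Ring.krullDimLE_one_iff_of_noZeroDivisors.mp h1 p hp hpp⟩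
  have h3 : IsDedekindDomain R := { }
  have hfin : {I : Ideal R | I.IsMaximal}.Finite := by
    have : {I : Ideal R | I.IsMaximal} = {IsLocalRing.maximalIdeal R} := by
      ext I
      simp only [Set.mem_ofPred_eq, Set.mem_singleton_iff]
      exact ⟨fun hI => IsLocalRing.eq_maximalIdeal hI, fun hI => hI ▸ inferInstance⟩
    rw [this]
    exact Set.finite_singleton _
  have : IsPrincipalIdealRing R := IsPrincipalIdealRing.of_finite_maximals hfin
  infer_instance

theorem stalk_regular_of_normal_dim_le_one (X : Scheme.{u}) [IsLocallyNoetherian X]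
    (hN : Pi1.IsNormalScheme X) (hd : topologicalKrullDim X ≤ 1) (x : X) :
    IsRegularLocalRing (X.presheaf.stalk x) := by
  obtain ⟨U, hU, hxU, -⟩ := exists_isAffineOpen_mem_and_subset (x := x) (U := ⊤) trivial
  have hdimA : ringKrullDim Γ(X, U) ≤ 1 := by
    rw [← PrimeSpectrum.topologicalKrullDim_eq_ringKrullDim Γ(X, U)]
    change topologicalKrullDim (Spec Γ(X, U)) ≤ 1
    rw [← IsHomeomorph.topologicalKrullDim_eq _ hU.isoSpec.hom.homeomorph.isHomeomorph]
    exact (topologicalKrullDim_subspace_le X U).trans hd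
  let _ := TopCat.Presheaf.algebra_section_stalk X.presheaf (⟨x, hxU⟩ : U)
  have hloc := hU.isLocalization_stalk ⟨x, hxU⟩
  have hdim : ringKrullDim (X.presheaf.stalk x) ≤ 1 := by
    rw [IsLocalization.AtPrime.ringKrullDim_eq_height (hU.primeIdealOf ⟨x, hxU⟩).asIdeal
      (X.presheaf.stalk x)]
    exact Ideal.height_le_ringKrullDim_of_isPrime.trans hdimA
  obtain ⟨h1, h2⟩ := hN x
  exact isRegularLocalRing_of_dim_le_one _ hdim

end Groth.Agent.H5.AG
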