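import Mathlib

universe u

open CategoryTheory Limits AlgebraicGeometry TopologicalSpace Opposite

namespace Groth.Agent.H5.AG

lemma exists_specializes_of_mem_closure_range_comap {A R : Type u} [CommRing A] [CommRing R]
    (φ : A →+* R) (y : PrimeSpectrum A)
    (hy : y ∈ closure (Set.range (PrimeSpectrum.comap φ))) :
    ∃ q : PrimeSpectrum R, PrimeSpectrum.comap φ q ⤳ y := by
  rw [PrimeSpectrum.closure_range_comap, PrimeSpectrum.mem_zeroLocus] at hy
  obtain ⟨Q, -, hQ, hQy⟩ := Ideal.exists_ideal_comap_le_prime (f := φ) y.asIdeal ⊥ hy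
  exact ⟨⟨Q, hQ⟩, (PrimeSpectrum.le_iff_specializes _ _).mp hQy⟩

lemma exists_specializes_of_mem_closure_range {X S : Scheme.{u}} (f : X ⟶ S) [QuasiCompact f]
    (y : S) (hy : y ∈ closure (Set.range f)) : ∃ x : X, f x ⤳ y := by
  obtain ⟨U, hU, hyU, -⟩ := exists_isAffineOpen_mem_and_subset (x := y) (U := ⊤) trivial
  have hc : IsCompact (f ⁻¹ᵁ U : Set X) := f.isCompact_preimage hU.isCompact
  obtain ⟨R, g, hg⟩ := isCompact_iff_exists.mp hc
  have hrange : Set.range (g ≫ f) = Set.range f ∩ U := by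
    ext z
    constructor
    · rintro ⟨a, rfl⟩
      have : g a ∈ (f ⁻¹ᵁ U : Set X) := hg ▸ Set.mem_range_self a
      exact ⟨⟨g a, by simp⟩, by simpa using this⟩
    · rintro ⟨⟨x, rfl⟩, hx⟩
      have : x ∈ Set.range g := by rw [hg]; exact hx
      obtain ⟨a, rfl⟩ := this
      exact ⟨a, by simp⟩
  have hsub : Set.range (g ≫ f) ⊆ Set.range hU.fromSpec := by
    rw [hU.range_fromSpec, hrange]
    exact Set.inter_subset_right
  let h' := IsOpenImmersion.lift hU.fromSpec (g ≫ f) hsub
  have hfac : h' ≫ hU.fromSpec = g ≫ f := IsOpenImmersion.lift_fac _ _ _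
  obtain ⟨y', rfl⟩ : y ∈ Set.range hU.fromSpec := by rw [hU.range_fromSpec]; exact hyU
  have hy' : y' ∈ closure (Set.range h') := by
    rw [hU.fromSpec.isOpenEmbedding.isInducing.closure_eq_preimage_closure_image]
    change hU.fromSpec y' ∈ closure (hU.fromSpec '' Set.range h')
    have : (hU.fromSpec '' Set.range h') = Set.range (g ≫ f) := by
      rw [← hfac, ← Set.range_comp]
      rfl
    rw [this, hrange, Set.inter_comm]
    exact U.isOpen.inter_closure ⟨hyU, hy⟩
  obtain ⟨φ, hφ⟩ : ∃ φ, Spec.map φ = h' := ⟨Spec.preimage h', Spec.map_preimage h'⟩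
  rw [← hφ] at hy'
  obtain ⟨q, hq⟩ := exists_specializes_of_mem_closure_range_comap φ.hom y' hy'
  refine ⟨g q, ?_⟩
  have h1 : hU.fromSpec (h' q) = f (g q) := by
    rw [← Scheme.Hom.comp_apply, hfac, Scheme.Hom.comp_apply]
  rw [← h1, ← hφ]
  exact hq.map hU.fromSpec.continuous

theorem isClosed_range_iff {X S : Scheme.{u}} (f : X ⟶ S) [QuasiCompact f] :
    IsClosed (Set.range f) ↔ StableUnderSpecialization (Set.range f) := by
  refine ⟨fun h => h.stableUnderSpecialization, fun H => ?_⟩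
  rw [← closure_subset_iff_isClosed]
  intro y hy
  obtain ⟨x, hx⟩ := exists_specializes_of_mem_closure_range f y hy
  exact H hx ⟨x, rfl⟩

end Groth.Agent.H5.AG
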